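import Cfsg.Agent.Lib.LeechCount.Co3Rank.Main

/-!
Orbits of the stabiliser of a pair on the 11178 vectors.
-/

set_option autoImplicit false

namespace Cfsg.Agent.LeechCount.Co3Rank

open Cfsg Cfsg.Agent.Leech Cfsg.Agent.Golay24 MulAction
open scoped Pointwise

noncomputable section

attribute [local irreducible] normFS dotFS PtCert.members

theorem vecU'_mem_dotFS : Spor.vecU' ∈ dotFS (-16) Spor.vecV :=
  mem_dotFS.2 ⟨⟨vecU'_facts.1, vecU'_facts.2.1⟩, by rw [dot_comm]; exact vecU'_facts.2.2⟩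

theorem vecU'_notMem (k : Fin 11) : Spor.vecU' ∉ (cs k).members := fun hk => by
  have := ((members_facts k).2 _ hk).2.2.1
  rw [dot_self, vecU'_facts.2.1] at this
  exact (show ∀ k, (32 : ℤ) ≠ dd k by decide +kernel) k this

theorem cover_aux {α : Type*} [DecidableEq α] (T : Finset α) (a : α) (F : Fin 11 → Finset α) (n : Fin 11 → ℕ)
    (ha : a ∈ T) (hF : ∀ k, ∀ z ∈ F k, z ∈ T) (hc : ∀ k, (F k).card = n k) (hnot : ∀ k, a ∉ F k)
    (hd : ∀ j k, j ≠ k → Disjoint (F j) (F k)) (hT : T.card = (∑ k, n k) + 1) {z : α} (hz : z ∈ T) :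
    z = a ∨ ∃ k, z ∈ F k := by
  have hnot' : a ∉ Finset.univ.biUnion F := fun hm => by
    obtain ⟨k, -, hk⟩ := Finset.mem_biUnion.1 hm
    exact hnot k hk
  have heq : insert a (Finset.univ.biUnion F) = T := by
    refine Finset.eq_of_subset_of_card_le (Finset.insert_subset ha fun w hw => ?_) ?_
    · obtain ⟨k, -, hk⟩ := Finset.mem_biUnion.1 hw
      exact hF k w hk
    · rw [hT, Finset.card_insert_of_notMem hnot', Finset.card_biUnion (fun j _ k _ h => hd j k h),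
        Finset.sum_congr rfl fun k _ => hc k]
  rw [← heq, Finset.mem_insert, Finset.mem_biUnion] at hz
  exact hz.imp id fun ⟨k, _, hk⟩ => ⟨k, hk⟩

theorem sz_sum : (∑ k, sz k) + 1 = 11178 := by decide

theorem cover {z : Vec} (hz : z ∈ dotFS (-16) Spor.vecV) :
    z = Spor.vecU' ∨ ∃ k, z ∈ (cs k).members :=
  cover_aux (dotFS (-16) Spor.vecV) Spor.vecU' (fun k => (cs k).members) sz vecU'_mem_dotFS
    (fun k w hw => ((members_facts k).2 w hw).2.1) (fun k => (members_facts k).1) vecU'_notMem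
    (fun _ _ h => members_disjoint h) ((card_11178 vecV_leech vecV_norm).trans sz_sum.symm) hz

/-- The canonical pair. -/
def U0 : ↥leechLattice := ⟨Spor.vecV, vecV_leech⟩

/-- The canonical second vector. -/
def X0 : ↥leechLattice := ⟨Spor.vecU', vecU'_facts.1⟩

theorem orbit_val (r : Fin 11) (hr : rep r = r) :
    Subtype.val '' orbit ↥(stabilizer ↥Co0 U0 ⊓ stabilizer ↥Co0 X0) (⟨root r, root_mem r⟩ : ↥leechLattice) =
      ↑((Finset.univ.filter fun k => dd k = dd r).biUnion fun k => (cs k).members) := by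
  ext z
  constructor
  · rintro ⟨_, ⟨g, rfl⟩, rfl⟩
    set w := (((g : ↥Co0) • (⟨root r, root_mem r⟩ : ↥leechLattice) : ↥leechLattice) : Vec) with hw
    show w ∈ _
    have e : ap (g : ↥Co0) (root r) = w := ap_coe (g : ↥Co0) ⟨root r, root_mem r⟩
    have hu : ap (g : ↥Co0) Spor.vecV = Spor.vecV :=
      (ap_coe (g : ↥Co0) U0).trans (congrArg Subtype.val (show (g : ↥Co0) • U0 = U0 from g.2.1))
    have hX : ap (g : ↥Co0) Spor.vecU' = Spor.vecU' :=
      (ap_coe (g : ↥Co0) X0).trans (congrArg Subtype.val (show (g : ↥Co0) • X0 = X0 from g.2.2))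
    have hd : dotInt Spor.vecU' w = dd r := by
      rw [← hX, ← e, ap_dot _ vecU'_leech (root_mem r), (root_vals r).2.2]
    have hT : w ∈ dotFS (-16) Spor.vecV := by
      refine mem_dotFS.2 ⟨⟨e ▸ ap_mem _ (root_mem r), ?_⟩, ?_⟩
      · rw [← e, ap_norm _ (root_mem r), (root_vals r).1]
      · rw [← hu, ← e, ap_dot _ vecV_leech (root_mem r), (root_vals r).2.1]
    rcases cover hT with h | ⟨k, hk⟩
    · rw [h, dot_self, vecU'_facts.2.1] at hd
      exact absurd hd ((show ∀ k, (32 : ℤ) ≠ dd k by decide +kernel) r)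
    · exact Finset.mem_coe.2 (Finset.mem_biUnion.2 ⟨k, Finset.mem_filter.2 ⟨Finset.mem_univ _,
        by rw [← hd, ((members_facts k).2 w hk).2.2.1]⟩, hk⟩)
  · intro hz
    obtain ⟨k, hk, hzk⟩ := Finset.mem_biUnion.1 (Finset.mem_coe.1 hz)
    have hkd := (Finset.mem_filter.1 hk).2
    have hrk : rep k = r :=
      (show ∀ k r : Fin 11, rep r = r → dd k = dd r → rep k = r by decide +kernel) k r hr hkd
    obtain ⟨⟨g, g1, g2, g3⟩, -⟩ := (members_facts k).2 z hzk
    rw [hrk] at g3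
    refine ⟨g • (⟨root r, root_mem r⟩ : ↥leechLattice), ⟨⟨g, ?_, ?_⟩, rfl⟩, ?_⟩
    · exact (smul_eq_iff_ap g U0 U0).2 g1
    · exact (smul_eq_iff_ap g X0 X0).2 g2
    · exact (ap_coe g _).symm.trans g3

theorem orbit_ncard (r : Fin 11) (hr : rep r = r) :
    (orbit ↥(stabilizer ↥Co0 U0 ⊓ stabilizer ↥Co0 X0) (⟨root r, root_mem r⟩ : ↥leechLattice)).ncard =
      ∑ k ∈ Finset.univ.filter (fun k => dd k = dd r), sz k := by
  rw [← Set.ncard_image_of_injective _ Subtype.val_injective, orbit_val r hr, Set.ncard_coe_finset,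
    Finset.card_biUnion (fun j _ k _ h => members_disjoint h),
    Finset.sum_congr rfl fun k _ => (members_facts k).1]

/-- Moving the pair moves the orbits. -/
theorem orbit_conj {u x : ↥leechLattice} {g : ↥Co0} (gu : g • u = U0) (gx : g • x = X0) (y : ↥leechLattice) :
    orbit ↥(stabilizer ↥Co0 u ⊓ stabilizer ↥Co0 x) (g⁻¹ • y) =
      g⁻¹ • orbit ↥(stabilizer ↥Co0 U0 ⊓ stabilizer ↥Co0 X0) y := by
  have hu : g⁻¹ • U0 = u := by rw [← gu, inv_smul_smul]
  have hx : g⁻¹ • X0 = x := by rw [← gx, inv_smul_smul]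
  ext z
  constructor
  · rintro ⟨⟨a, a1, a2⟩, rfl⟩
    refine ⟨(g * a * g⁻¹) • y, ⟨⟨g * a * g⁻¹, ?_, ?_⟩, rfl⟩, ?_⟩
    · show (g * a * g⁻¹) • U0 = U0
      rw [mul_smul, mul_smul, hu, show a • u = u from a1, gu]
    · show (g * a * g⁻¹) • X0 = X0
      rw [mul_smul, mul_smul, hx, show a • x = x from a2, gx]
    · show g⁻¹ • (g * a * g⁻¹) • y = a • (g⁻¹ • y)
      rw [mul_smul, mul_smul, inv_smul_smul]
  · rintro ⟨_, ⟨⟨a, a1, a2⟩, rfl⟩, rfl⟩
    refine ⟨⟨g⁻¹ * a * g, ?_, ?_⟩, ?_⟩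
    · show (g⁻¹ * a * g) • u = u
      rw [mul_smul, mul_smul, gu, show a • U0 = U0 from a1, hu]
    · show (g⁻¹ * a * g) • x = x
      rw [mul_smul, mul_smul, gx, show a • X0 = X0 from a2, hx]
    · show (g⁻¹ * a * g) • (g⁻¹ • y) = g⁻¹ • (a • y)
      rw [mul_smul, mul_smul, smul_inv_smul]

end

end Cfsg.Agent.LeechCount.Co3Rank
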