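import Cfsg.Agent.Lib.LeechCount.HSGroup
import Cfsg.Agent.Lib.Golay.SylowCert
import Cfsg.Agent.Lib.Leech.Sextet

/-!
Certificates for orbits of coordinate permutations on short vectors, the vectors packed in
24 fields of four bits.
-/

set_option autoImplicit false

namespace Cfsg.Agent.LeechCount.Co3Rank

open Cfsg Cfsg.Agent.Leech Cfsg.Agent.Golay24

noncomputable section

/-- The vector of a packed code. -/
def vecN (c : ℕ) : Vec := fun i => (getSlot 4 c (idx i).val : ℤ) - 8

/-- The code has no bits beyond the 24 fields. -/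
def normB (c : ℕ) : Bool := packSlots 4 ((List.range 24).map (getSlot 4 c)) == c

/-- `y` is the image of `x` under the packed permutation `g`. -/
def edgeB (g x y : ℕ) : Bool := (List.range 24).all fun i => getSlot 4 y (app g i) == getSlot 4 x i

/-- An orbit tree. -/
def treeB (gens : List ℕ) (P : ℕ) : ℕ → List (ℕ × ℕ) → Bool
  | _, [] => true
  | k, (j, g) :: rest =>
    Nat.blt j k && Nat.blt g gens.length &&
      edgeB (gens.getD g 0) (getSlot 96 P j) (getSlot 96 P k) && treeB gens P (k + 1) rest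

/-- A class: the packed table, the tree, a sorting and the two key entries. -/
structure PtCert where
  tab : ℕ
  tree : List (ℕ × ℕ)
  srt : List ℕ
  kQ : ℕ
  kP : ℕ

/-- The number of members. -/
def PtCert.len (c : PtCert) : ℕ := c.tree.length + 1

/-- A member. -/
def PtCert.pt (c : PtCert) (k : ℕ) : ℕ := getSlot 96 c.tab k

/-- All checks. -/
def PtCert.ok (c : PtCert) (gens : List ℕ) : Bool :=
  treeB gens c.tab 1 c.tree && (c.srt.length == c.len) &&
    (c.srt.all fun k => Nat.blt k c.len) && sortedB (c.srt.map c.pt) &&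
    (c.srt.all fun k => normB (c.pt k) &&
      (getSlot 4 (c.pt k) 23 == c.kQ) && (getSlot 4 (c.pt k) 0 == c.kP))

theorem vecN_injOn {x y : ℕ} (hx : normB x = true) (hy : normB y = true) (h : vecN x = vecN y) :
    x = y := by
  rw [normB, beq_iff_eq] at hx hy
  rw [← hx, ← hy]
  congr 1
  refine List.map_congr_left fun i hi => ?_
  have := congrFun h (Golay24.pt ⟨i, List.mem_range.1 hi⟩)
  simpa [vecN] using this

theorem vecN_edge {g x y : ℕ} (hg : inM24 g = true) (he : edgeB g x y = true) (j : GolayPt) :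
    vecN y (toPerm g j) = vecN x j := by
  rw [edgeB, List.all_eq_true] at he
  have := beq_iff_eq.1 (he (idx j).val (List.mem_range.2 (idx j).isLt))
  simp only [vecN, idx_toPerm (valid_of_inM24 hg), this]

theorem ap_perm_eq {g : ℕ} (hg : inM24 g = true) {z w : Vec} (hz : z ∈ leechLattice)
    (h : ∀ j, w (toPerm g j) = z j) : ap (permCo (toPerm g) (toPerm_mem_M24 hg)) z = w := by
  funext i
  rw [ap_permCo _ hz, ← h ((toPerm g).symm i), Equiv.apply_symm_apply]

/-- Related by an element fixing two given vectors. -/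
def Linked (u X x y : Vec) : Prop := ∃ g : ↥Co0, ap g u = u ∧ ap g X = X ∧ ap g x = y

theorem Linked.refl (u X x : Vec) : Linked u X x x := ⟨1, ap_one u, ap_one X, ap_one x⟩

theorem Linked.mem {u X x y : Vec} (hx : x ∈ leechLattice) (h : Linked u X x y) : y ∈ leechLattice := by
  obtain ⟨g, -, -, rfl⟩ := h; exact ap_mem g hx

theorem Linked.trans {u X x y z : Vec} (hu : u ∈ leechLattice) (hX : X ∈ leechLattice)
    (hx : x ∈ leechLattice) (h : Linked u X x y) (h' : Linked u X y z) : Linked u X x z := by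
  obtain ⟨g, g1, g2, g3⟩ := h
  obtain ⟨k, k1, k2, k3⟩ := h'
  exact ⟨k * g, by rw [ap_mul _ _ hu, g1, k1], by rw [ap_mul _ _ hX, g2, k2], by rw [ap_mul _ _ hx, g3, k3]⟩

theorem Linked.symm {u X x y : Vec} (hu : u ∈ leechLattice) (hX : X ∈ leechLattice)
    (hx : x ∈ leechLattice) (h : Linked u X x y) : Linked u X y x := by
  obtain ⟨g, g1, g2, g3⟩ := h
  refine ⟨g⁻¹, ?_, ?_, ?_⟩
  · conv_lhs => rw [← g1, ap_inv_ap g hu]
  · conv_lhs => rw [← g2, ap_inv_ap g hX]
  · rw [← g3, ap_inv_ap g hx]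

variable {u X : Vec} {gens : List ℕ}

/-- Generators fixing both vectors. -/
def GensFix (u X : Vec) (gens : List ℕ) : Prop :=
  ∀ g ∈ gens, inM24 g = true ∧ (∀ j, u (toPerm g j) = u j) ∧ ∀ j, X (toPerm g j) = X j

theorem tree_linked (hu : u ∈ leechLattice) (hX : X ∈ leechLattice) (hg : GensFix u X gens)
    {P : ℕ} (h0 : vecN (getSlot 96 P 0) ∈ leechLattice) :
    ∀ (cert : List (ℕ × ℕ)) (k : ℕ), treeB gens P k cert = true →
      (∀ i < k, Linked u X (vecN (getSlot 96 P 0)) (vecN (getSlot 96 P i))) →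
      ∀ i < k + cert.length, Linked u X (vecN (getSlot 96 P 0)) (vecN (getSlot 96 P i))
  | [], k, _, hk, i, hi => hk i (by simpa using hi)
  | (j, g) :: rest, k, h, hk, i, hi => by
    simp only [treeB, Bool.and_eq_true, Nat.blt_eq] at h
    obtain ⟨⟨⟨hj, hgl⟩, he⟩, hr⟩ := h
    have hmem : gens.getD g 0 ∈ gens := by rw [List.getD_eq_getElem _ _ hgl]; exact List.getElem_mem _
    obtain ⟨hM, fu, fX⟩ := hg _ hmem
    have hstep : Linked u X (vecN (getSlot 96 P j)) (vecN (getSlot 96 P k)) :=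
      ⟨permCo _ (toPerm_mem_M24 hM), ap_perm_eq hM hu fu, ap_perm_eq hM hX fX,
        ap_perm_eq hM ((hk j hj).mem h0) (vecN_edge hM he)⟩
    have hk' : ∀ i' < k + 1, Linked u X (vecN (getSlot 96 P 0)) (vecN (getSlot 96 P i')) := fun i' hi' => by
      rcases Nat.lt_succ_iff_lt_or_eq.1 hi' with h' | rfl
      · exact hk i' h'
      · exact (hk j hj).trans hu hX h0 hstep
    exact tree_linked hu hX hg h0 rest (k + 1) hr hk' i (by simp only [List.length_cons] at hi; omega)

/-- The members of a class. -/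
def PtCert.members (c : PtCert) : Finset Vec := (c.srt.map fun k => vecN (c.pt k)).toFinset

theorem PtCert.members_spec (c : PtCert) (hu : u ∈ leechLattice) (hX : X ∈ leechLattice)
    (hg : GensFix u X gens) (hok : c.ok gens = true) (h0 : vecN (c.pt 0) ∈ leechLattice) :
    c.members.card = c.len ∧ (∀ k < c.len, Linked u X (vecN (c.pt 0)) (vecN (c.pt k))) ∧
      ∀ z ∈ c.members, Linked u X (vecN (c.pt 0)) z ∧
        z (Golay24.pt ⟨23, by norm_num⟩) = (c.kQ : ℤ) - 8 ∧ z (Golay24.pt ⟨0, by norm_num⟩) = (c.kP : ℤ) - 8 := by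
  simp only [PtCert.ok, Bool.and_eq_true, beq_iff_eq, List.all_eq_true, Nat.blt_eq] at hok
  obtain ⟨⟨⟨⟨ht, hlen⟩, hlt⟩, hs⟩, hn⟩ := hok
  have hl : ∀ k < c.len, Linked u X (vecN (c.pt 0)) (vecN (c.pt k)) := fun k hk =>
    tree_linked hu hX hg h0 c.tree 1 ht (fun i hi => by obtain rfl : i = 0 := (by omega); exact Linked.refl _ _ _) k
      (by simp only [PtCert.len] at hk; omega)
  refine ⟨?_, hl, ?_⟩
  · have hnd : (c.srt.map c.pt).Nodup := (sortedB_pairwise hs).imp fun h => Nat.ne_of_lt h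
    rw [PtCert.members, List.toFinset_card_of_nodup, List.length_map, hlen]
    refine List.Nodup.map_on (fun a ha b hb h => ?_) hnd.of_map
    exact List.inj_on_of_nodup_map hnd ha hb (vecN_injOn (hn a ha).1.1 (hn b hb).1.1 h)
  · intro z hz
    rw [PtCert.members, List.mem_toFinset, List.mem_map] at hz
    obtain ⟨k, hk, rfl⟩ := hz
    refine ⟨hl k (hlt k hk), ?_, ?_⟩ <;> simp [vecN, (hn k hk).1.2, (hn k hk).2]

/-- A test for the sextet labels. -/
def sxOk (l : List (Fin 6)) : Prop :=
  (∀ j : Fin 6, (Finset.univ.filter fun i : GolayPt => l.getD (idx i).val 0 = j).card = 4) ∧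
    ∀ j k : Fin 6, j ≠ k →
      inCode (maskOf (Finset.univ.filter fun i : GolayPt => l.getD (idx i).val 0 = j ∨ l.getD (idx i).val 0 = k)) = true

/-- The sextet of a label list. -/
def sxOfList (l : List (Fin 6)) (h : sxOk l) : Sx where
  idx i := l.getD (idx i).val 0
  card_fib := h.1
  pair j k hjk := mem_supports_iff_inCode.2 (h.2 j k hjk)

/-- A test for membership in the lattice. -/
theorem vecN_mem {c : ℕ} (m : ℤ) (h : (∀ i, (2 : ℤ) ∣ vecN c i - m) ∧
    (8 : ℤ) ∣ (∑ i, vecN c i) - 4 * m ∧ inCode (maskOf (pat m (vecN c))) = true) :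
    vecN c ∈ leechLattice :=
  (mem_leech_iff _).2 ⟨m, h.1, h.2.1, mem_supports_iff_inCode.2 h.2.2⟩

end

end Cfsg.Agent.LeechCount.Co3Rank
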