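import Cfsg.Agent.Lib.LeechCount.Co3Rank.Data

/-! The checks of the certificate. -/

set_option autoImplicit false

namespace Cfsg.Agent.LeechCount.Co3Rank

noncomputable section

theorem cls1_ok : cls1.ok gens = true ∧ cls1.len = 22 := by
  decide +kernel

theorem cls2_ok : cls2.ok gens = true ∧ cls2.len = 462 := by
  decide +kernel

theorem cls3_ok : cls3.ok gens = true ∧ cls3.len = 1155 := by
  decide +kernel

theorem cls4_ok : cls4.ok gens = true ∧ cls4.len = 176 := by
  decide +kernel

theorem cls5_ok : cls5.ok gens = true ∧ cls5.len = 3696 := by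
  decide +kernel

theorem cls6_ok : cls6.ok gens = true ∧ cls6.len = 330 := by
  decide +kernel

theorem cls7_ok : cls7.ok gens = true ∧ cls7.len = 176 := by
  decide +kernel

theorem cls8_ok : cls8.ok gens = true ∧ cls8.len = 1232 := by
  decide +kernel

theorem cls9_ok : cls9.ok gens = true ∧ cls9.len = 2640 := by
  decide +kernel

theorem cls10_ok : cls10.ok gens = true ∧ cls10.len = 616 := by
  decide +kernel

theorem cls11_ok : cls11.ok gens = true ∧ cls11.len = 672 := by
  decide +kernel

end

end Cfsg.Agent.LeechCount.Co3Rank
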