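import Cfsg.Agent.Lib.LeechCount.Co3Rank.Check

/-!
The stabiliser of a pair (norm 48, norm 32, product -16) and its orbits on the 11178 vectors.
-/

set_option autoImplicit false

namespace Cfsg.Agent.LeechCount.Co3Rank

open Cfsg Cfsg.Agent.Leech Cfsg.Agent.Golay24 MulAction
open scoped Pointwise

noncomputable section

attribute [local irreducible] normFS dotFS PtCert.members

/-- The eleven classes other than the fixed vector. -/
def cs : Fin 11 → PtCert := ![cls1, cls2, cls3, cls4, cls5, cls6, cls7, cls8, cls9, cls10, cls11]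

/-- Product with the fixed vector in each class. -/
def dd : Fin 11 → ℤ := ![16, 16, 0, -8, 8, 0, -8, 8, 0, 16, 8]

/-- The chosen representative class. -/
def rep : Fin 11 → Fin 11 := ![1, 1, 8, 6, 4, 8, 6, 4, 8, 1, 4]

/-- The sizes. -/
def sz : Fin 11 → ℕ := ![22, 462, 1155, 176, 3696, 330, 176, 1232, 2640, 616, 672]

/-- The first vector of each class. -/
def root (k : Fin 11) : Vec := vecN ((cs k).pt 0)

theorem cs_ok : ∀ k, (cs k).ok gens = true ∧ (cs k).len = sz k := by
  intro k
  fin_cases k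
  exacts [cls1_ok, cls2_ok, cls3_ok, cls4_ok, cls5_ok, cls6_ok, cls7_ok, cls8_ok, cls9_ok, cls10_ok, cls11_ok]

theorem root_mem : ∀ k, root k ∈ leechLattice := by
  intro k
  fin_cases k
  all_goals first
    | exact vecN_mem 0 (by decide +kernel)
    | exact vecN_mem 1 (by decide +kernel)

theorem root_vals : ∀ k, sqNorm (root k) = 32 ∧ dotInt Spor.vecV (root k) = -16 ∧
    dotInt Spor.vecU' (root k) = dd k := by
  decide +kernel

theorem gens_fix : GensFix Spor.vecV Spor.vecU' gens := by
  have h : ∀ g ∈ gens, inM24 g = true ∧ (∀ j, Spor.vecV (appPt g j) = Spor.vecV j) ∧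
      ∀ j, Spor.vecU' (appPt g j) = Spor.vecU' j := by decide +kernel
  intro g hg
  obtain ⟨h1, h2, h3⟩ := h g hg
  exact ⟨h1, fun j => by rw [toPerm_apply (valid_of_inM24 h1), h2 j],
    fun j => by rw [toPerm_apply (valid_of_inM24 h1), h3 j]⟩

theorem lab1_ok : sxOk lab1 := by unfold sxOk; decide +kernel

theorem lab2_ok : sxOk lab2 := by unfold sxOk; decide +kernel

/-- The part of the extra element before the permutation. -/
def hFun (z : Vec) : Vec := fun i =>
  if i ∈ Golay24.setOf sgn then -((sxOfList lab2 lab2_ok).xi ((sxOfList lab1 lab1_ok).xi z) i)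
  else (sxOfList lab2 lab2_ok).xi ((sxOfList lab1 lab1_ok).xi z) i

theorem hPerm_ok : inM24 hPerm = true := by decide +kernel

theorem sgn_inC : Leech.InC (Golay24.setOf sgn) := mem_supports_iff_inCode.2 (by decide +kernel)

/-- The extra element. -/
def hEl : ↥Co0 := permCo (toPerm hPerm) (toPerm_mem_M24 hPerm_ok) * signCo (Golay24.setOf sgn) sgn_inC *
  (sxOfList lab2 lab2_ok).xiCo * (sxOfList lab1 lab1_ok).xiCo

theorem ap_hEl {z w : Vec} (hz : z ∈ leechLattice) (h : ∀ j, w (appPt hPerm j) = hFun z j) :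
    ap hEl z = w := by
  have h1 := (sxOfList lab1 lab1_ok).xi_mem hz
  have h2 := (sxOfList lab2 lab2_ok).xi_mem h1
  rw [hEl, ap_mul _ _ hz, Sx.ap_xiCo _ hz, ap_mul _ _ h1, Sx.ap_xiCo _ h1, ap_mul _ _ h2]
  refine ap_perm_eq hPerm_ok (ap_mem _ h2) fun j => ?_
  rw [toPerm_apply (valid_of_inM24 hPerm_ok), h j, ap_signCo sgn_inC h2]
  rfl

theorem vecU'_leech : Spor.vecU' ∈ leechLattice := vecU'_facts.1

theorem h_linked {z w : Vec} (hz : z ∈ leechLattice) (h : ∀ j, w (appPt hPerm j) = hFun z j) :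
    Linked Spor.vecV Spor.vecU' z w :=
  ⟨hEl, ap_hEl vecV_leech (by decide +kernel), ap_hEl vecU'_leech (by decide +kernel), ap_hEl hz h⟩

theorem reach (e : Fin 11) {i : ℕ} (hi : i < sz e) :
    Linked Spor.vecV Spor.vecU' (root e) (vecN ((cs e).pt i)) :=
  ((cs e).members_spec vecV_leech vecU'_leech gens_fix (cs_ok e).1 (root_mem e)).2.1 i
    (by rw [(cs_ok e).2]; exact hi)

/-- One application of the extra element joins two classes. -/
theorem link_step (k e : Fin 11) (i : ℕ) (hi : i < sz e)
    (h : ∀ j, vecN ((cs e).pt i) (appPt hPerm j) = hFun (root k) j) :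
    Linked Spor.vecV Spor.vecU' (root e) (root k) :=
  (reach e hi).trans vecV_leech vecU'_leech (root_mem e)
    ((h_linked (root_mem k) h).symm vecV_leech vecU'_leech (root_mem k))

theorem root_linked : ∀ k, Linked Spor.vecV Spor.vecU' (root (rep k)) (root k) := by
  have h6 : Linked Spor.vecV Spor.vecU' (root 2) (root 5) :=
    link_step 5 2 992 (by decide) (by decide +kernel)
  have h3 : Linked Spor.vecV Spor.vecU' (root 8) (root 2) :=
    link_step 2 8 1346 (by decide) (by decide +kernel)
  intro k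
  fin_cases k
  · exact link_step 0 1 45 (by decide) (by decide +kernel)
  · exact Linked.refl _ _ _
  · exact h3
  · exact link_step 3 6 49 (by decide) (by decide +kernel)
  · exact Linked.refl _ _ _
  · exact h3.trans vecV_leech vecU'_leech (root_mem 8) h6
  · exact Linked.refl _ _ _
  · exact link_step 7 4 1365 (by decide) (by decide +kernel)
  · exact Linked.refl _ _ _
  · exact link_step 9 1 349 (by decide) (by decide +kernel)
  · exact link_step 10 4 2606 (by decide) (by decide +kernel)

theorem members_facts (k : Fin 11) : (cs k).members.card = sz k ∧ ∀ z ∈ (cs k).members,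
    Linked Spor.vecV Spor.vecU' (root (rep k)) z ∧ z ∈ dotFS (-16) Spor.vecV ∧
      dotInt Spor.vecU' z = dd k ∧
      z (Golay24.pt ⟨23, by norm_num⟩) = ((cs k).kQ : ℤ) - 8 ∧
      z (Golay24.pt ⟨0, by norm_num⟩) = ((cs k).kP : ℤ) - 8 := by
  obtain ⟨h1, -, h3⟩ := (cs k).members_spec vecV_leech vecU'_leech gens_fix (cs_ok k).1 (root_mem k)
  refine ⟨h1.trans (cs_ok k).2, fun z hz => ?_⟩
  obtain ⟨hl, hQ, hP⟩ := h3 z hz
  refine ⟨(root_linked k).trans vecV_leech vecU'_leech (root_mem (rep k)) hl, ?_, ?_, hQ, hP⟩ <;>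
    obtain ⟨g, g1, g2, rfl⟩ := hl
  · refine mem_dotFS.2 ⟨⟨ap_mem g (root_mem k), (ap_norm g (root_mem k)).trans (root_vals k).1⟩, ?_⟩
    conv_lhs => rw [← g1]
    exact (ap_dot g vecV_leech (root_mem k)).trans (root_vals k).2.1
  · conv_lhs => rw [← g2]
    exact (ap_dot g vecU'_leech (root_mem k)).trans (root_vals k).2.2

theorem keys_distinct : ∀ j k, (cs j).kQ = (cs k).kQ → (cs j).kP = (cs k).kP → j = k := by
  decide +kernel

theorem members_disjoint {j k : Fin 11} (h : j ≠ k) : Disjoint (cs j).members (cs k).members := by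
  rw [Finset.disjoint_left]
  intro z hz hz'
  obtain ⟨-, -, -, a, b⟩ := (members_facts j).2 z hz
  obtain ⟨-, -, -, a', b'⟩ := (members_facts k).2 z hz'
  exact h (keys_distinct j k (by omega) (by omega))

end

end Cfsg.Agent.LeechCount.Co3Rank
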